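import Mathlib
import Cfsg.Agent.Lib.Block.Trace
import Cfsg.Agent.Lib.Block.Height
import Cfsg.Agent.Lib.Block.Induced
import Cfsg.Agent.Lib.Char.UniqueSing
import Cfsg.Agent.Lib.Char.Diag

/-!
# Kazarin's theorem, the character-theoretic core
-/

set_option autoImplicit false
set_option linter.unusedSectionVars false
set_option linter.unusedVariables false

namespace CfsgLib.Kaz

open Cfsg CfsgLib.Block CfsgLib.Char Module
open scoped ComplexConjugate

universe u

theorem sub_one_mem_of_pow {q : ℕ} {M : Ideal AlgInt} (hM : IsPModular q M) (ζ : AlgInt)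
    (h : ζ ^ q = 1) : ζ - 1 ∈ M := by
  obtain ⟨hq, hmax, hqM⟩ := hM
  have hP := hmax.isPrime
  apply hP.mem_of_pow_mem q
  obtain ⟨r, hr⟩ := exists_add_pow_prime_eq hq (1 : AlgInt) (ζ - 1)
  have h1 : (1 + (ζ - 1)) = ζ := by ring
  rw [h1, h, one_pow] at hr
  have h2 : (ζ - 1) ^ q = - ((q : AlgInt) * ((ζ - 1) * r)) := by linear_combination -hr
  rw [h2]
  exact M.neg_mem (M.mul_mem_right _ hqM)

theorem coprime_not_mem {p q : ℕ} {M : Ideal AlgInt} (hM : IsPModular q M) (hp : p.Prime) (hpq : p ≠ q) :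
    (p : AlgInt) ∉ M := by
  obtain ⟨hq, hmax, hqM⟩ := hM
  intro hpM
  have hc : Nat.Coprime p q := (Nat.coprime_primes hp hq).2 hpq
  have h2 := Nat.isCoprime_iff_coprime.2 hc
  obtain ⟨a, b, hab⟩ := h2
  have h3 : (a : AlgInt) * (p : AlgInt) + (b : AlgInt) * (q : AlgInt) = 1 := by
    exact_mod_cast congrArg (Int.cast : ℤ → AlgInt) hab
  have h4 : (1 : AlgInt) ∈ M := by
    rw [← h3]
    exact M.add_mem (M.mul_mem_left _ hpM) (M.mul_mem_left _ hqM)
  exact hmax.ne_top ((Ideal.eq_top_iff_one M).2 h4)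

variable {G : Type u} [Group G] [Fintype G]

/-- Members of the principal block are linear or of degree divisible by `p`. -/
theorem linear_or_dvd {p q k : ℕ} (hp : p.Prime) (hpq : p ≠ q) {M : Ideal AlgInt}
    (hM : IsPModular q M) (x : G)
    (hgen : Subgroup.normalClosure ({x} : Set G) = ⊤)
    (hidx : (Subgroup.centralizer ({x} : Set G)).index = p ^ k)
    (χ : IrrCharacter G) (hχ : χ ∈ principalBlock M G) :
    (χ : G → ℂ) 1 = 1 ∨ p ∣ charDegree (χ : G → ℂ) := by
  classical
  by_cases hd : p ∣ charDegree (χ : G → ℂ)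
  · exact Or.inr hd
  left
  obtain ⟨n, ρ, hρ, hρχ⟩ := χ.2
  have hP := hM.2.1.isPrime
  have hdeg : charDegree (χ : G → ℂ) = n := by
    have h1 := irr_one_eq_charDegree χ
    rw [← hρχ] at h1
    have h2 : ρ.character (1 : G) = (n : ℂ) := by simp
    rw [h2, hρχ] at h1
    exact_mod_cast h1.symm
  have hcop : Nat.Coprime n (Subgroup.centralizer ({x} : Set G)).index := by
    rw [hidx, ← hdeg]
    exact Nat.Coprime.pow_right _ (((Nat.Prime.coprime_iff_not_dvd hp).2 hd).symm)
  rcases eq_zero_or_norm_eq ρ x hcop with h0 | hnorm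
  · exfalso
    rw [hρχ] at h0
    have hb : SameBlock M (fun _ : G => (1 : ℂ)) (χ : G → ℂ) := hχ
    have h1 := hb x
    have h2 : centralChar (fun _ : G => (1 : ℂ)) x - centralChar (χ : G → ℂ) x = ((p : ℂ) ^ k) := by
      simp only [centralChar, h0, hidx]
      simp
    rw [h2] at h1
    have h3 : (((p : AlgInt) ^ k : AlgInt) : ℂ) ∈ locI hP := by
      have : (((p : AlgInt) ^ k : AlgInt) : ℂ) = (p : ℂ) ^ k := by simp
      rw [this]
      exact h1
    have h4 := mem_of_locI hP h3
    exact coprime_not_mem hM hp hpq (hP.mem_of_pow_mem k h4)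
  · have hfr : (finrank ℂ (Fin n → ℂ) : ℝ) = (n : ℝ) := by simp
    have h1 : ‖ρ.character x‖ = (finrank ℂ (Fin n → ℂ) : ℝ) := by rw [hnorm, hfr]
    obtain ⟨ω, hω⟩ := (norm_character_eq_iff ρ x).1 h1
    -- the scalar subgroup
    let S : Subgroup G :=
      { carrier := {g | ∃ c : ℂ, ρ g = c • (LinearMap.id : (Fin n → ℂ) →ₗ[ℂ] (Fin n → ℂ))}
        one_mem' := ⟨1, by simp [map_one]; rfl⟩
        mul_mem' := by
          rintro a b ⟨c, hc⟩ ⟨d, hd⟩
          refine ⟨c * d, ?_⟩
          rw [map_mul, hc, hd]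
          ext v i
          simp
          ring
        inv_mem' := by
          rintro a ⟨c, hc⟩
          have hc0 : c ≠ 0 := by
            rintro rfl
            have h2 : ρ a * ρ a⁻¹ = 1 := by rw [← map_mul, mul_inv_cancel, map_one]
            rw [hc] at h2
            simp only [zero_smul, zero_mul] at h2
            have hnpos : 0 < n := by
              obtain ⟨d, hd0, hd1⟩ := χ.2.map_one
              have h5 : ((χ : G → ℂ) 1) = n := by
                rw [← hρχ]; simp
              rw [h5] at hd1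
              have : n = d := by exact_mod_cast hd1
              omega
            have h3 := congrArg (fun T : (Fin n → ℂ) →ₗ[ℂ] (Fin n → ℂ) => T (fun _ => 1) ⟨0, hnpos⟩) h2
            simp at h3
          refine ⟨c⁻¹, ?_⟩
          have h2 : ρ a * ρ a⁻¹ = 1 := by rw [← map_mul, mul_inv_cancel, map_one]
          rw [hc] at h2
          ext v i
          have h3 := congrArg (fun T : (Fin n → ℂ) →ₗ[ℂ] (Fin n → ℂ) => T (Pi.single v 1) i) h2
          simp at h3
          simp
          field_simp
          linear_combination h3 }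
    have hSn : S.Normal := by
      constructor
      rintro a ⟨c, hc⟩ g
      refine ⟨c, ?_⟩
      rw [map_mul, map_mul, hc]
      ext v i
      have : ρ g (ρ g⁻¹ (Pi.single v 1)) = Pi.single v 1 := by
        rw [← Module.End.mul_apply, ← map_mul, mul_inv_cancel, map_one]; rfl
      simp [this]
    have hxS : x ∈ S := ⟨ω, hω⟩
    have hS : S = ⊤ := by
      rw [eq_top_iff, ← hgen]
      apply Subgroup.normalClosure_le_normal
      simpa using hxS
    have hall : ∀ g, ∃ c : ℂ, ρ g = c • (LinearMap.id : (Fin n → ℂ) →ₗ[ℂ] (Fin n → ℂ)) := by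
      intro g
      have : g ∈ S := by rw [hS]; trivial
      exact this
    apply linear_of_trivial_on_commutator χ
    have hkerc : commutator G ≤ MonoidHom.ker ρ := by
      rw [_root_.commutator_def, Subgroup.commutator_le]
      intro a _ b _
      rw [MonoidHom.mem_ker, commutatorElement_def]
      have hab : ρ a * ρ b = ρ b * ρ a := by
        obtain ⟨c, hc⟩ := hall a
        obtain ⟨d, hd⟩ := hall b
        rw [hc, hd]
        ext v i
        simp
        ring
      have h2 : ρ (a * b) = ρ (b * a) := by rw [map_mul, map_mul, hab]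
      have h3 : a * b * a⁻¹ * b⁻¹ = (a * b) * (b * a)⁻¹ := by group
      rw [h3, map_mul, h2, ← map_mul, mul_inv_cancel, map_one]
    intro m hm
    have h2 : ρ m = ρ 1 := by
      rw [map_one]
      exact hkerc hm
    rw [← hρχ]
    show LinearMap.trace ℂ _ (ρ m) = LinearMap.trace ℂ _ (ρ 1)
    rw [h2]

theorem hom_pow_eq_one {q : ℕ} (x : G) (hgen : Subgroup.normalClosure ({x} : Set G) = ⊤)
    (hxq : x ^ q = 1) (l : G →* ℂˣ) (g : G) : l g ^ q = 1 := by
  have hS : (((powMonoidHom q : ℂˣ →* ℂˣ).comp l).ker : Subgroup G) = ⊤ := by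
    rw [eq_top_iff, ← hgen]
    apply Subgroup.normalClosure_le_normal
    simp only [Set.singleton_subset_iff]
    show _ = _
    simp [← map_pow, hxq]
  have : g ∈ (((powMonoidHom q : ℂˣ →* ℂˣ).comp l).ker : Subgroup G) := by rw [hS]; trivial
  simpa [MonoidHom.mem_ker] using this

theorem linear_mem_principal {q : ℕ} {M : Ideal AlgInt} (hM : IsPModular q M) (x : G)
    (hgen : Subgroup.normalClosure ({x} : Set G) = ⊤) (hxq : x ^ q = 1)
    (ψ : IrrCharacter G) (h1 : (ψ : G → ℂ) 1 = 1) : ψ ∈ principalBlock M G := by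
  obtain ⟨l, hl⟩ := exists_hom_of_degree_one ψ.2.isCharacter h1
  have hP := hM.2.1.isPrime
  show SameBlock M (fun _ : G => (1 : ℂ)) (ψ : G → ℂ)
  intro g
  have h2 : (l g : ℂ) ^ q = 1 := by
    have := hom_pow_eq_one x hgen hxq l g
    have h3 := congrArg (Units.val) this
    simpa using h3
  have hint : IsIntegral ℤ ((l g : ℂˣ) : ℂ) := by
    refine ⟨Polynomial.X ^ q - 1, Polynomial.monic_X_pow_sub_C (1 : ℤ) hM.1.ne_zero, ?_⟩
    simp [h2]
  let a : AlgInt := ⟨((l g : ℂˣ) : ℂ), hint⟩
  have ha : a ^ q = 1 := by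
    apply Subtype.ext
    push_cast
    exact h2
  have h3 := sub_one_mem_of_pow hM a ha
  refine ⟨((Subgroup.centralizer ({g} : Set G)).index : AlgInt) * (1 - a), 1, ?_, one_notMem' hP, ?_⟩
  · apply M.mul_mem_left
    have : 1 - a = - (a - 1) := by ring
    rw [this]
    exact M.neg_mem h3
  · simp only [centralChar, hl, h1]
    simp [a, map_one]
    ring

theorem quot_pow_eq_one {q : ℕ} (x : G) (hgen : Subgroup.normalClosure ({x} : Set G) = ⊤)
    (hxq : x ^ q = 1) (z : G ⧸ commutator G) : z ^ q = 1 := by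
  have hS : (((powMonoidHom q : Abelianization G →* Abelianization G).comp Abelianization.of).ker : Subgroup G) = ⊤ := by
    rw [eq_top_iff, ← hgen]
    apply Subgroup.normalClosure_le_normal
    simp only [Set.singleton_subset_iff]
    show _ = _
    simp [← map_pow, hxq]
  induction z using QuotientGroup.induction_on with
  | H g =>
    have : g ∈ (((powMonoidHom q : Abelianization G →* Abelianization G).comp Abelianization.of).ker : Subgroup G) := by
      rw [hS]; trivial
    exact this

theorem not_dvd_card_quot {p q : ℕ} (hp : p.Prime) (hq : q.Prime) (hpq : p ≠ q) (x : G)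
    (hgen : Subgroup.normalClosure ({x} : Set G) = ⊤) (hxq : x ^ q = 1) :
    ¬ p ∣ Nat.card (G ⧸ commutator G) := by
  intro h
  haveI := Fact.mk hp
  obtain ⟨z, hz⟩ := exists_prime_orderOf_dvd_card' p h
  have h1 := orderOf_dvd_of_pow_eq_one (quot_pow_eq_one x hgen hxq z)
  rw [hz] at h1
  exact hpq ((Nat.prime_dvd_prime_iff_eq hp hq).1 h1)

open scoped Classical in
theorem card_linear : (Finset.univ.filter (fun ψ : IrrCharacter G => (ψ : G → ℂ) 1 = 1)).card =
    Nat.card (G ⧸ commutator G) := by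
  rw [← sum_deg_sq_trivial (commutator G)]
  have h1 : (Finset.univ.filter (fun ψ : IrrCharacter G => ∀ m ∈ commutator G, (ψ : G → ℂ) m = (ψ : G → ℂ) 1)) =
      (Finset.univ.filter (fun ψ : IrrCharacter G => (ψ : G → ℂ) 1 = 1)) := by
    apply Finset.filter_congr
    intro ψ _
    exact ⟨linear_of_trivial_on_commutator ψ, linear_trivial_on_commutator ψ⟩
  rw [h1, Finset.card_eq_sum_ones]
  apply Finset.sum_congr rfl
  intro ψ hψ
  have h2 := (Finset.mem_filter.1 hψ).2
  have h3 := irr_one_eq_charDegree ψ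
  rw [h2] at h3
  have h4 : charDegree (ψ : G → ℂ) = 1 := by exact_mod_cast h3.symm
  rw [h4]
  rfl

/-- The main consequence of block orthogonality. -/
theorem no_singular {p q k : ℕ} (hp : p.Prime) (hq : q.Prime) (hpq : p ≠ q) (x : G)
    (hxq : x ^ q = 1)
    (hgen : Subgroup.normalClosure ({x} : Set G) = ⊤)
    (hidx : (Subgroup.centralizer ({x} : Set G)).index = p ^ k)
    (y : G) (hy : y ∈ commutator G) : ¬ q ∣ orderOf y := by
  classical
  intro hqy
  obtain ⟨M, hM⟩ := exists_isPModular q hq
  have hB : IsPBlock M (principalBlock M G) := ⟨oneIrr G, rfl⟩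
  have horth := weak_orth hM hB (x := (1 : G)) (y := y)
    (by simpa using hq.one_lt.ne') hqy
  let L := Finset.univ.filter (fun ψ : IrrCharacter G => (ψ : G → ℂ) 1 = 1)
  let s : IrrCharacter G → ℂ := fun χ =>
    if (χ : G → ℂ) 1 = 1 then 0 else
      if χ ∈ principalBlock M G then ((charDegree (χ : G → ℂ) / p : ℕ) : ℂ) * conj ((χ : G → ℂ) y) else 0
  have hterm : ∀ χ : IrrCharacter G,
      (if χ ∈ principalBlock M G then (χ : G → ℂ) 1 * conj ((χ : G → ℂ) y) else 0) =
        (if (χ : G → ℂ) 1 = 1 then 1 else 0) + (p : ℂ) * s χ := by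
    intro χ
    by_cases h1 : (χ : G → ℂ) 1 = 1
    · have hmem := linear_mem_principal hM x hgen hxq χ h1
      have h2 := linear_trivial_on_commutator χ h1 y hy
      simp only [hmem, if_true, h1, s]
      simp [h2, h1]
    · simp only [h1, if_false, s]
      by_cases hmem : χ ∈ principalBlock M G
      · simp only [hmem, if_true]
        have hd := (linear_or_dvd hp hpq hM x hgen hidx χ hmem).resolve_left h1
        have h3 := irr_one_eq_charDegree χ
        have h4 : (charDegree (χ : G → ℂ) : ℂ) = (p : ℂ) * ((charDegree (χ : G → ℂ) / p : ℕ) : ℂ) := by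
          exact_mod_cast (Nat.mul_div_cancel' hd).symm
        rw [h3, h4]
        ring
      · simp [hmem]
  have hsum : ((L.card : ℕ) : ℂ) + (p : ℂ) * ∑ χ, s χ = 0 := by
    have h1 := horth
    simp only [hterm] at h1
    rw [Finset.sum_add_distrib, ← Finset.mul_sum] at h1
    rw [← h1]
    congr 1
    rw [Finset.sum_ite, Finset.sum_const_zero, add_zero, Finset.sum_const]
    simp [L]
  have hpC : (p : ℂ) ≠ 0 := by exact_mod_cast hp.ne_zero
  have hdiv : ((L.card : ℕ) : ℂ) / (p : ℂ) = - ∑ χ, s χ := by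
    field_simp
    linear_combination hsum
  have hint : IsIntegral ℤ (((L.card : ℕ) : ℂ) / (p : ℂ)) := by
    rw [hdiv]
    refine IsIntegral.neg (R := ℤ) ?_
    refine IsIntegral.sum _ fun χ _ => ?_
    simp only [s]
    split_ifs
    · exact isIntegral_zero
    · refine IsIntegral.mul ?_ ?_
      · exact isIntegral_natCast _
      · have := χ.2.isCharacter.isIntegral y⁻¹
        rwa [χ.2.isCharacter.map_inv] at this
    · exact isIntegral_zero
  have hdvd : p ∣ L.card := dvd_of_isIntegral_div hp.pos hint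
  have hcard : L.card = Nat.card (G ⧸ commutator G) := card_linear
  rw [hcard] at hdvd
  exact not_dvd_card_quot hp hq hpq x hgen hxq hdvd

end CfsgLib.Kaz
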