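import Mathlib
import Cfsg.Agent.Lib.Kaz.Core
import Cfsg.Agent.Lib.Solv.CoprimeSylow
import Cfsg.Agent.Lib.Solv.Misc

/-!
# Kazarin's theorem: an element whose class has prime-power size has solvable normal closure
-/

set_option autoImplicit false
set_option linter.unusedSectionVars false
set_option linter.unusedVariables false

namespace CfsgLib.Kaz

open Subgroup

universe u

section Basic

variable {G : Type u} [Group G] [Finite G]

theorem relIndex_dvd_index_of_normal_right (C K : Subgroup G) [hK : K.Normal] :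
    C.relIndex K ∣ C.index := by
  set T := K ⊔ C with hT
  have h1 : C.relIndex T * T.index = C.index := Subgroup.relIndex_mul_index le_sup_right
  have hD1 : (K ⊓ C).relIndex K * K.relIndex T = (K ⊓ C).relIndex T :=
    Subgroup.relIndex_mul_relIndex _ _ _ inf_le_left le_sup_left
  have hD2 : (K ⊓ C).relIndex C * C.relIndex T = (K ⊓ C).relIndex T :=
    Subgroup.relIndex_mul_relIndex _ _ _ inf_le_right le_sup_right
  have h2 : K.relIndex T = K.relIndex C := Subgroup.relIndex_sup_left C K
  have h3 : (K ⊓ C).relIndex C = K.relIndex C := Subgroup.inf_relIndex_right K C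
  have h4 : (K ⊓ C).relIndex K = C.relIndex K := by
    rw [inf_comm]; exact Subgroup.inf_relIndex_right C K
  have hpos : 0 < K.relIndex C := Nat.pos_of_ne_zero Subgroup.index_ne_zero_of_finite
  have h5 : C.relIndex K = C.relIndex T := by
    rw [← h4]
    apply Nat.eq_of_mul_eq_mul_right hpos
    calc (K ⊓ C).relIndex K * K.relIndex C = (K ⊓ C).relIndex K * K.relIndex T := by rw [h2]
      _ = (K ⊓ C).relIndex T := hD1
      _ = (K ⊓ C).relIndex C * C.relIndex T := hD2.symm
      _ = C.relIndex T * K.relIndex C := by rw [h3]; ring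
  rw [h5, ← h1]
  exact dvd_mul_right _ _

theorem index_centralizer_conj (g z : G) :
    (centralizer ({g * z * g⁻¹} : Set G)).index = (centralizer ({z} : Set G)).index := by
  have h : centralizer ({g * z * g⁻¹} : Set G) =
      (centralizer ({z} : Set G)).map (MulAut.conj g).toMonoidHom := by
    ext a
    simp only [Subgroup.mem_centralizer_singleton_iff, Subgroup.mem_map]
    constructor
    · intro h
      refine ⟨g⁻¹ * a * g, ?_, by simp [MulAut.conj_apply]; group⟩
      have : a * (g * z * g⁻¹) = g * z * g⁻¹ * a := by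
        rw [h]
      calc g⁻¹ * a * g * z = g⁻¹ * (a * (g * z * g⁻¹)) * g := by group
        _ = g⁻¹ * (g * z * g⁻¹ * a) * g := by rw [this]
        _ = z * (g⁻¹ * a * g) := by group
    · rintro ⟨b, hb, rfl⟩
      simp only [MulEquiv.coe_toMonoidHom, MulAut.conj_apply]
      calc g * b * g⁻¹ * (g * z * g⁻¹) = g * (b * z) * g⁻¹ := by group
        _ = g * (z * b) * g⁻¹ := by rw [hb]
        _ = g * z * g⁻¹ * (g * b * g⁻¹) := by group
  rw [h]
  exact Subgroup.index_map_of_bijective (MulAut.conj g).bijective _

theorem isSolvable_of_eq_top {N : Subgroup G} (h : N = ⊤) (hs : Group.IsSolvable N) :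
    Group.IsSolvable G := by
  subst h
  exact Group.isSolvable_of_surjective (f := (⊤ : Subgroup G).subtype) (fun g => ⟨⟨g, trivial⟩, rfl⟩)

end Basic

/-- Solvable normal subgroups: a group generated by elements with solvable normal closures. -/
theorem solvable_of_closure_eq_top {Y : Type u} [Group Y] [Finite Y] (S : Set Y)
    (hS : closure S = ⊤) (h : ∀ s ∈ S, Group.IsSolvable (normalClosure ({s} : Set Y))) :
    Group.IsSolvable Y := by
  have hfin : ({N : Subgroup Y | N.Normal ∧ Group.IsSolvable N}).Finite := Set.toFinite _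
  obtain ⟨R, hR⟩ := hfin.exists_maximal ⟨⊥, inferInstance, inferInstance⟩
  obtain ⟨hRn, hRs⟩ := hR.1
  have hsub : ∀ s ∈ S, s ∈ R := by
    intro s hs
    set N := normalClosure ({s} : Set Y) with hN
    haveI : N.Normal := Subgroup.normalClosure_normal
    have hNs := h s hs
    have hsup : (R ⊔ N).Normal ∧ Group.IsSolvable (R ⊔ N : Subgroup Y) := by
      refine ⟨inferInstance, ?_⟩
      -- (R ⊔ N) / N ≅ R / (R ⊓ N)
      let f : N →* (R ⊔ N : Subgroup Y) := Subgroup.inclusion le_sup_right
      haveI : f.range.Normal := by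
        constructor
        rintro ⟨a, ha⟩ ⟨⟨b, hb⟩, hab⟩ ⟨c, hc⟩
        refine ⟨⟨c * b * c⁻¹, (Subgroup.normalClosure_normal : N.Normal).conj_mem b hb c⟩, ?_⟩
        apply Subtype.ext
        have : b = a := congrArg Subtype.val hab
        simp [f, this]
      have hq : Group.IsSolvable ((R ⊔ N : Subgroup Y) ⧸ f.range) := by
        let k : R →* (R ⊔ N : Subgroup Y) ⧸ f.range := (QuotientGroup.mk' _).comp (Subgroup.inclusion le_sup_left)
        apply Group.isSolvable_of_surjective (f := k)
        intro z
        induction z using QuotientGroup.induction_on with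
        | H t =>
          obtain ⟨t, ht⟩ := t
          have ht' : t ∈ ((R ⊔ N : Subgroup Y) : Set Y) := ht
          rw [Subgroup.mul_normal, Set.mem_mul] at ht'
          obtain ⟨r, hr, n, hn, rfl⟩ := ht'
          refine ⟨⟨r, hr⟩, ?_⟩
          show ((⟨r, _⟩ : (R ⊔ N : Subgroup Y)) : (R ⊔ N : Subgroup Y) ⧸ f.range) = _
          rw [QuotientGroup.eq]
          refine ⟨⟨n, hn⟩, ?_⟩
          apply Subtype.ext
          simp [f]
      exact Group.isSolvable_of_ker_le_range f (QuotientGroup.mk' f.range) (by
        rw [QuotientGroup.ker_mk'])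
    have hle : R ≤ R ⊔ N := le_sup_left
    have h1 := hR.2 hsup hle
    have h2 : N ≤ R := le_sup_right.trans h1
    exact h2 (Subgroup.subset_normalClosure (Set.mem_singleton s))
  have htop : R = ⊤ := by
    rw [eq_top_iff, ← hS]
    exact (Subgroup.closure_le R).2 hsub
  exact isSolvable_of_eq_top htop hRs

section Main

/-- The inductive hypothesis. -/
def IH (n : ℕ) : Prop :=
  ∀ (H : Type u) [Group H] [Finite H], Nat.card H < n → ∀ (z : H) (p k : ℕ), p.Prime →
    (centralizer ({z} : Set H)).index = p ^ k → Group.IsSolvable (normalClosure ({z} : Set H))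

variable {G : Type u} [Group G] [Finite G]

theorem solvable_of_quot (hIH : IH.{u} (Nat.card G)) (N : Subgroup G) [hNn : N.Normal] (hN : N ≠ ⊥)
    (hNs : Group.IsSolvable N) (x : G) (hgen : normalClosure ({x} : Set G) = ⊤) {p k : ℕ}
    (hp : p.Prime) (hidx : (centralizer ({x} : Set G)).index = p ^ k) : Group.IsSolvable G := by
  have hcard : Nat.card (G ⧸ N) < Nat.card G := by
    have h1 := Subgroup.card_eq_card_quotient_mul_card_subgroup N
    have h2 : 1 < Nat.card N := (Subgroup.one_lt_card_iff_ne_bot N).2 hN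
    have h3 : 0 < Nat.card (G ⧸ N) := Nat.card_pos
    rw [h1]
    nlinarith
  have hle : centralizer ({x} : Set G) ≤
      (centralizer ({((x : G) : G ⧸ N)} : Set (G ⧸ N))).comap (QuotientGroup.mk' N) := by
    intro g hg
    rw [Subgroup.mem_comap, Subgroup.mem_centralizer_singleton_iff]
    rw [Subgroup.mem_centralizer_singleton_iff] at hg
    show ((g * x : G) : G ⧸ N) = ((x * g : G) : G ⧸ N)
    rw [hg]
  have hdvd := Subgroup.index_dvd_of_le hle
  rw [Subgroup.index_comap_of_surjective _ (QuotientGroup.mk'_surjective N), hidx] at hdvd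
  obtain ⟨j, -, hj⟩ := (Nat.dvd_prime_pow hp).1 hdvd
  have h1 := hIH (G ⧸ N) hcard ((x : G) : G ⧸ N) p j hp hj
  have h2 : normalClosure ({((x : G) : G ⧸ N)} : Set (G ⧸ N)) = ⊤ := by
    have h3 := Subgroup.map_normalClosure ({x} : Set G) (QuotientGroup.mk' N) (QuotientGroup.mk'_surjective N)
    rw [hgen, Set.image_singleton, Subgroup.map_top_of_surjective _ (QuotientGroup.mk'_surjective N)] at h3
    exact h3.symm
  have h4 := isSolvable_of_eq_top h2 h1
  exact Group.isSolvable_of_ker_le_range N.subtype (QuotientGroup.mk' N) (by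
    rw [QuotientGroup.ker_mk', Subgroup.range_subtype])

theorem solvable_of_proper (hIH : IH.{u} (Nat.card G)) (z : G) {p k : ℕ} (hp : p.Prime)
    (hidx : (centralizer ({z} : Set G)).index = p ^ k) (hK : normalClosure ({z} : Set G) ≠ ⊤) :
    Group.IsSolvable (normalClosure ({z} : Set G)) := by
  set K := normalClosure ({z} : Set G) with hKdef
  haveI hKn : K.Normal := Subgroup.normalClosure_normal
  have hcard : Nat.card K < Nat.card G := by
    apply lt_of_le_of_ne (Subgroup.card_le_card_group K)
    intro h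
    exact hK (Subgroup.eq_top_of_card_eq K h)
  apply solvable_of_closure_eq_top (((↑) : K → G) ⁻¹' (Group.conjugatesOfSet ({z} : Set G)))
  · exact Subgroup.closure_closure_coe_preimage
  · intro s hs
    have h1 : s.1 ∈ Group.conjugatesOfSet ({z} : Set G) := hs
    obtain ⟨a, ha, hconj⟩ := Group.mem_conjugatesOfSet_iff.1 h1
    rw [Set.mem_singleton_iff] at ha
    subst ha
    obtain ⟨g, hg⟩ := isConj_iff.1 hconj
    have h2 : (centralizer ({s.1} : Set G)).index = p ^ k := by
      rw [← hg, index_centralizer_conj, hidx]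
    have h3 : centralizer ({s} : Set K) = (centralizer ({s.1} : Set G)).subgroupOf K := by
      ext t
      rw [Subgroup.mem_subgroupOf, Subgroup.mem_centralizer_singleton_iff,
        Subgroup.mem_centralizer_singleton_iff]
      exact Subtype.ext_iff
    have h4 : (centralizer ({s} : Set K)).index ∣ p ^ k := by
      rw [h3, ← h2]
      exact relIndex_dvd_index_of_normal_right _ K
    obtain ⟨j, -, hj⟩ := (Nat.dvd_prime_pow hp).1 h4
    exact hIH K hcard s p j hp hj

/-- The normal `p`-subgroup produced by the block-theoretic core. -/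
theorem exists_normal_pgroup {p q k : ℕ} (hp : p.Prime) (hq : q.Prime) (hpq : p ≠ q) (x : G)
    (hxq : orderOf x = q) (hgen : normalClosure ({x} : Set G) = ⊤)
    (hidx : (centralizer ({x} : Set G)).index = p ^ k) (hk : k ≠ 0) :
    ∃ P : Subgroup G, P.Normal ∧ IsPGroup p P ∧ P ≠ ⊥ := by
  classical
  haveI := Fintype.ofFinite G
  haveI := Fact.mk hp
  haveI := Fact.mk hq
  have hxq' : x ^ q = 1 := hxq ▸ pow_orderOf_eq_one x
  have hcop : (Nat.card (zpowers x)).Coprime (Nat.card (commutator G)) := by
    rw [Nat.card_zpowers, hxq, Nat.Prime.coprime_iff_not_dvd hq]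
    intro h
    obtain ⟨z, hz⟩ := exists_prime_orderOf_dvd_card' q h
    apply no_singular hp hq hpq x hxq' hgen hidx (z : G) z.2
    rw [Subgroup.orderOf_coe, hz]
  obtain ⟨P, hP, hPA⟩ := CfsgLib.Solv.exists_invariant_sylow (p := p) (zpowers x) (commutator G)
    (by
      rw [Subgroup.normalizer_eq_top_iff.2 inferInstance]
      exact le_top) hcop (Or.inl (by
      haveI : IsCyclic (zpowers x) := inferInstance
      exact Group.isSolvable_of_comm (fun a b => by
        apply Subtype.ext
        obtain ⟨i, hi⟩ := a.2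
        obtain ⟨j, hj⟩ := b.2
        simp only [Subgroup.coe_mul]
        rw [← hi, ← hj]
        exact zpow_mul_comm x i j)))
  obtain ⟨hPK, hPp, hPr⟩ := hP
  have hidxP : ¬ p ∣ P.index := by
    have h1 : P.relIndex (commutator G) * (commutator G).index = P.index :=
      Subgroup.relIndex_mul_index hPK
    rw [← h1]
    intro h2
    rcases (Nat.Prime.dvd_mul hp).1 h2 with h3 | h3
    · exact hPr h3
    · exact not_dvd_card_quot hp hq hpq x hgen hxq' h3
  have hcop2 : (centralizer ({x} : Set G)).index.Coprime P.index := by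
    rw [hidx]
    exact Nat.Coprime.pow_left _ ((Nat.Prime.coprime_iff_not_dvd hp).2 hidxP)
  have hdecomp := (CfsgLib.Solv.index_inf_coprime _ _ hcop2).2
  have hnorm : normalizer (P : Set G) = ⊤ := by
    rw [eq_top_iff, ← hgen]
    show closure (Group.conjugatesOfSet ({x} : Set G)) ≤ _
    rw [Subgroup.closure_le]
    intro y hy
    obtain ⟨a, ha, hconj⟩ := Group.mem_conjugatesOfSet_iff.1 hy
    rw [Set.mem_singleton_iff] at ha
    subst ha
    obtain ⟨g, hg⟩ := isConj_iff.1 hconj
    obtain ⟨c, hc, u, hu, hgcu⟩ := hdecomp g⁻¹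
    have hcomm : c * a = a * c := Subgroup.mem_centralizer_singleton_iff.1 hc
    have h1 : y = u⁻¹ * a * u := by
      have h2 : g = u⁻¹ * c⁻¹ := by
        have : g = (g⁻¹)⁻¹ := by group
        rw [this, hgcu]
        group
      rw [← hg, h2]
      have h3 : c⁻¹ * a * c = a := by
        rw [mul_assoc, ← hcomm]
        group
      calc u⁻¹ * c⁻¹ * a * (u⁻¹ * c⁻¹)⁻¹ = u⁻¹ * (c⁻¹ * a * c) * u := by group
        _ = u⁻¹ * a * u := by rw [h3]
    show y ∈ normalizer (P : Set G)
    rw [h1]
    have hu' : u ∈ normalizer (P : Set G) := Subgroup.le_normalizer hu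
    have ha' : a ∈ normalizer (P : Set G) := hPA (Subgroup.mem_zpowers a)
    exact Subgroup.mul_mem _ (Subgroup.mul_mem _ (Subgroup.inv_mem _ hu') ha') hu'
  refine ⟨P, Subgroup.normalizer_eq_top_iff.1 hnorm, hPp, ?_⟩
  rintro rfl
  apply hidxP
  rw [Subgroup.index_bot]
  refine dvd_trans ?_ (Subgroup.index_dvd_card (centralizer ({x} : Set G)))
  rw [hidx]
  exact dvd_pow_self p hk

/-- An element of order `p` with `p`-power class: the normal closure is a `p`-group. -/
theorem solvable_of_p_elt {p k : ℕ} (hp : p.Prime) (y : G) (hyp : orderOf y = p)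
    (hgen : normalClosure ({y} : Set G) = ⊤)
    (hidx : (centralizer ({y} : Set G)).index = p ^ k) : Group.IsSolvable G := by
  haveI := Fact.mk hp
  have hzp : IsPGroup p (zpowers y) := by
    apply IsPGroup.of_card (n := 1)
    rw [Nat.card_zpowers, hyp, pow_one]
  obtain ⟨Q, hQ⟩ := hzp.exists_le_sylow
  have hcop2 : (centralizer ({y} : Set G)).index.Coprime (Q : Subgroup G).index := by
    rw [hidx]
    exact Nat.Coprime.pow_left _ ((Nat.Prime.coprime_iff_not_dvd hp).2 Q.not_dvd_index)
  have hdecomp := (CfsgLib.Solv.index_inf_coprime _ _ hcop2).2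
  have htop : (Q : Subgroup G) = ⊤ := by
    rw [eq_top_iff, ← hgen]
    show closure (Group.conjugatesOfSet ({y} : Set G)) ≤ _
    rw [Subgroup.closure_le]
    intro w hw
    obtain ⟨a, ha, hconj⟩ := Group.mem_conjugatesOfSet_iff.1 hw
    rw [Set.mem_singleton_iff] at ha
    subst ha
    obtain ⟨g, hg⟩ := isConj_iff.1 hconj
    obtain ⟨c, hc, u, hu, hgcu⟩ := hdecomp g⁻¹
    have hcomm : c * a = a * c := Subgroup.mem_centralizer_singleton_iff.1 hc
    have h1 : w = u⁻¹ * a * u := by
      have h2 : g = u⁻¹ * c⁻¹ := by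
        have : g = (g⁻¹)⁻¹ := by group
        rw [this, hgcu]
        group
      rw [← hg, h2]
      have h3 : c⁻¹ * a * c = a := by
        rw [mul_assoc, ← hcomm]
        group
      calc u⁻¹ * c⁻¹ * a * (u⁻¹ * c⁻¹)⁻¹ = u⁻¹ * (c⁻¹ * a * c) * u := by group
        _ = u⁻¹ * a * u := by rw [h3]
    show w ∈ (Q : Subgroup G)
    rw [h1]
    have ha' : a ∈ (Q : Subgroup G) := hQ (Subgroup.mem_zpowers a)
    exact Subgroup.mul_mem _ (Subgroup.mul_mem _ (Subgroup.inv_mem _ hu) ha') hu
  haveI : Group.IsNilpotent (Q : Subgroup G) := Q.2.isNilpotent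
  exact isSolvable_of_eq_top htop inferInstance

theorem kazarin_aux (n : ℕ) : ∀ (G : Type u) [Group G] [Finite G], Nat.card G = n →
    ∀ (x : G) (p k : ℕ), p.Prime → (centralizer ({x} : Set G)).index = p ^ k →
      Group.IsSolvable (normalClosure ({x} : Set G)) := by
  induction n using Nat.strong_induction_on with
  | _ n ih =>
  intro G _ _ hG x p k hp hidx
  have hIH : IH.{u} (Nat.card G) := by
    intro H _ _ hH z p k hp hz
    exact ih (Nat.card H) (hG ▸ hH) H rfl z p k hp hz
  by_cases hK : normalClosure ({x} : Set G) = ⊤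
  swap
  · exact solvable_of_proper hIH x hp hidx hK
  suffices Group.IsSolvable G by infer_instance
  by_cases hx1 : x = 1
  · subst hx1
    have : normalClosure ({1} : Set G) = ⊥ := by
      rw [eq_bot_iff]
      apply Subgroup.normalClosure_le_normal
      simp
    rw [this] at hK
    have h1 : (⊤ : Subgroup G) = ⊥ := hK.symm
    haveI : Subsingleton G := by
      constructor
      intro a b
      have ha : a ∈ (⊥ : Subgroup G) := h1 ▸ Subgroup.mem_top a
      have hb : b ∈ (⊥ : Subgroup G) := h1 ▸ Subgroup.mem_top b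
      rw [Subgroup.mem_bot] at ha hb
      rw [ha, hb]
    infer_instance
  have hox : orderOf x ≠ 1 := by rwa [Ne, orderOf_eq_one_iff]
  set q := (orderOf x).minFac with hq
  have hqp : q.Prime := Nat.minFac_prime hox
  have hqd : q ∣ orderOf x := Nat.minFac_dvd _
  have hoxpos : orderOf x ≠ 0 := (orderOf_pos x).ne'
  set y := x ^ (orderOf x / q) with hy
  have hoy : orderOf y = q := orderOf_pow_orderOf_div hoxpos hqd
  have hy1 : y ≠ 1 := by
    intro h
    rw [h, orderOf_one] at hoy
    exact hqp.one_lt.ne hoy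
  have hle : centralizer ({x} : Set G) ≤ centralizer ({y} : Set G) := by
    intro g hg
    rw [Subgroup.mem_centralizer_singleton_iff] at hg ⊢
    exact ((Commute.pow_right (show Commute g x from hg) _) : _)
  have hdvd := Subgroup.index_dvd_of_le hle
  rw [hidx] at hdvd
  obtain ⟨j, -, hj⟩ := (Nat.dvd_prime_pow hp).1 hdvd
  by_cases hM : normalClosure ({y} : Set G) = ⊤
  swap
  · have hMs := solvable_of_proper hIH y hp hj hM
    haveI : (normalClosure ({y} : Set G)).Normal := Subgroup.normalClosure_normal
    refine solvable_of_quot hIH (normalClosure ({y} : Set G)) ?_ hMs x hK hp hidx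
    intro h
    apply hy1
    have : y ∈ normalClosure ({y} : Set G) := Subgroup.subset_normalClosure (Set.mem_singleton y)
    rw [h] at this
    exact Subgroup.mem_bot.1 this
  by_cases hpq : p = q
  · subst hpq
    exact solvable_of_p_elt hp y hoy hM hj
  by_cases hj0 : j = 0
  · subst hj0
    rw [pow_zero, Subgroup.index_eq_one] at hj
    have hc : y ∈ center G := by
      rw [Subgroup.mem_center_iff]
      intro g
      have : g ∈ centralizer ({y} : Set G) := by rw [hj]; trivial
      exact Subgroup.mem_centralizer_singleton_iff.1 this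
    have h1 : normalClosure ({y} : Set G) ≤ center G := by
      apply Subgroup.normalClosure_le_normal
      simpa using hc
    rw [hM] at h1
    apply Group.isSolvable_of_comm
    intro a b
    have ha : a ∈ center G := h1 trivial
    exact (Subgroup.mem_center_iff.1 ha b).symm
  obtain ⟨P, hPn, hPp, hP1⟩ := exists_normal_pgroup hp hqp hpq y hoy hM hj hj0
  haveI := Fact.mk hp
  haveI : Group.IsNilpotent P := hPp.isNilpotent
  exact solvable_of_quot hIH P hP1 inferInstance y hM hp hj

end Main

/-- **Kazarin's theorem.** -/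
theorem kazarin {G : Type u} [Group G] [Finite G] (x : G) {p k : ℕ} (hp : p.Prime)
    (hidx : (centralizer ({x} : Set G)).index = p ^ k) :
    Group.IsSolvable (normalClosure ({x} : Set G)) :=
  kazarin_aux _ G rfl x p k hp hidx

end CfsgLib.Kaz
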